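import Groth.Agent.S17335
import Mathlib.RingTheory.Etale.Pi
import Mathlib.RingTheory.Artinian.Ring
import Mathlib.RingTheory.Etale.Basic
import Mathlib.RingTheory.Nilpotent.Lemmas

/-! Finite algebras over algebraically closed fields: the unique section of `A → A/nil`. -/

set_option autoImplicit false
universe u v

namespace Groth.Agent.FinAlgClosed

theorem formallyEtale_of_isReduced (k : Type u) [Field k] [IsAlgClosed k] (A : Type v) [CommRing A] [Algebra k A]
    [Module.Finite k A] [IsReduced A] : Algebra.FormallyEtale k A := by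
  obtain ⟨hfin, hsur, hker⟩ := S17335.result k A
  have hinj : Function.Injective (AlgHom.pi (R := k) (fun f : A →ₐ[k] k => f)) := by
    rw [injective_iff_map_eq_zero]
    intro a ha
    have h1 : a ∈ nilradical A := hker ▸ (RingHom.mem_ker.2 ha)
    rwa [nilradical_eq_zero, Ideal.zero_eq_bot, Ideal.mem_bot] at h1
  exact Algebra.FormallyEtale.of_equiv (AlgEquiv.ofBijective _ ⟨hinj, hsur⟩).symm

theorem existsUnique_section (k : Type u) [Field k] [IsAlgClosed k] (A : Type v) [CommRing A] [Algebra k A]
    [Module.Finite k A] : ∃! s : (A ⧸ nilradical A) →ₐ[k] A,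
      (Ideal.Quotient.mkₐ k (nilradical A)).comp s = AlgHom.id k (A ⧸ nilradical A) := by
  have : IsArtinianRing A := IsArtinianRing.of_finite k A
  have hnil : IsNilpotent (nilradical A) := IsArtinianRing.isNilpotent_nilradical
  have : IsReduced (A ⧸ nilradical A) := (Ideal.isRadical_iff_quotient_reduced _).1 (Ideal.radical_isRadical _)
  have := formallyEtale_of_isReduced k (A ⧸ nilradical A)
  refine ⟨Algebra.FormallySmooth.lift (nilradical A) hnil (AlgHom.id k _), Algebra.FormallySmooth.comp_lift _ hnil _, fun t ht => ?_⟩
  exact Algebra.FormallyUnramified.lift_unique _ hnil t _ (ht.trans (Algebra.FormallySmooth.comp_lift _ hnil _).symm)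

end Groth.Agent.FinAlgClosed
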